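import Groth.Agent.CurvesA.EtFieldTors
import Groth.Agent.EtpbcA.PullFLC
import Groth.Prelude.Def_PBC

/-!
# Constructible sheaves on the spectrum of a field are finite

A constructible abelian sheaf on `Spec K` is split by a finite Galois extension `N`, with `F(Spec N)` finite.
-/

set_option autoImplicit false

universe u

open CategoryTheory Category Limits Opposite AlgebraicGeometry Abelian
open Groth.Agent.CurvesA Groth.Agent.CurvesA.EtFieldObj Groth.Agent.CurvesA.EtFieldDesc
open Groth.Agent.CurvesA.EtFieldTr Groth.Agent.CurvesA.EtFieldFin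

namespace Groth.Agent.Sga2lef.H97.FieldCons

variable {K : Type u} [Field K]

/-- A constructible sheaf on the spectrum of a field is finite locally constant. -/
theorem isFLC_of_isConstructible (F : EtCoh.Ab (Spec (CommRingCat.of K)))
    (hF : EtPBC.IsConstructible F) : EtCoh.IsFiniteLocallyConstant F := by
  obtain ⟨n, T, g, hg, -, -, hU, hT⟩ := hF ⊤ (isAffineOpen_top _)
  let x : Spec (CommRingCat.of K) := (⟨⊥, Ideal.isPrime_bot⟩ : PrimeSpectrum K)
  have hx : x ∈ ⋃ i, Set.range (g i) := by
    rw [hU]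
    exact Set.mem_univ x
  obtain ⟨i, hi⟩ := Set.mem_iUnion.1 hx
  have hsub : ∀ y : Spec (CommRingCat.of K), y = x := fun y =>
    Subsingleton.elim (α := PrimeSpectrum K) _ _
  have hr : Set.range (g i) = Set.univ := by
    refine Set.eq_univ_of_forall fun y => ?_
    rw [hsub y]
    exact hi
  have := hg i
  have h1 : IsClosedImmersion (g i) := .of_isPreimmersion _ (by rw [hr]; exact isClosed_univ)
  have h2 : Surjective (g i) := ⟨Set.range_eq_univ.1 hr⟩
  have h3 : IsIso (g i) := isIso_of_isClosedImmersion_of_surjective (g i)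
  have h4 := EtpbcA.PullFLC.isFLC_pull (inv (g i)) _ (hT i)
  refine EtpbcA.PullFLC.isFLC_of_iso ?_ h4
  exact (EtpbcA.PullFLC.pullComp (inv (g i)) (g i)).app F ≪≫
    (EtpbcA.PullFLC.pullCongr (IsIso.inv_hom_id (g i))).app F ≪≫
    (EtpbcA.PullFLC.pullId _).app F

/-- Finite locally constant sheaves on `Spec K` are split by a finite Galois extension, with finite sections. -/
theorem exists_split_of_isFLC (F : EtCoh.Ab (Spec (CommRingCat.of K)))
    (hF : EtCoh.IsFiniteLocallyConstant F) :
    ∃ (N : Type u) (_ : Field N) (_ : Algebra K N) (_ : FiniteDimensional K N) (_ : IsGalois K N),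
      Split N F ∧ Finite (F.obj.obj (op (etObj K N))) := by
  obtain ⟨ι, U, hU, h⟩ := hF
  let x : Spec (CommRingCat.of K) := (⟨⊥, Ideal.isPrime_bot⟩ : PrimeSpectrum K)
  obtain ⟨i, y, -⟩ := hU x
  obtain ⟨L, _, _, _, _, g, hg, -⟩ := exists_field_hit (U i) y
  obtain ⟨N, i1, i2, i3, i4, ⟨φ⟩, -⟩ := exists_galois (K := K) L L
  let f : etObj K N ⟶ U i := etMap φ ≫ homMk g hg
  obtain ⟨M, _, _, ⟨e⟩⟩ := h i
  let J := (Spec (CommRingCat.of K)).smallEtaleTopology
  let P : (Over (U i))ᵒᵖ ⥤ AddCommGrpCat.{u + 1} :=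
    (Functor.const _).obj (AddCommGrpCat.of (ULift.{u + 1} M))
  let τ := toSheafify (J.over (U i)) P
  let ρ : sheafify (J.over (U i)) P ⟶ (EtCoh.restr F (U i)).obj := e.inv.hom
  have hρiso : IsIso ρ := by
    have : IsIso ((sheafToPresheaf _ _).map e.inv) := inferInstance
    exact this
  have h1 : Presheaf.IsLocallySurjective (J.over (U i)) τ := inferInstance
  have h2 : Presheaf.IsLocallySurjective (J.over (U i)) ρ := inferInstance
  have h3 : Presheaf.IsLocallySurjective (J.over (U i)) (τ ≫ ρ) :=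
    Presheaf.isLocallySurjective_comp _ τ ρ
  let σ : P ⟶ (EtCoh.restr F (U i)).obj := τ ≫ ρ
  -- the section attached to `m : M` over `W`
  have key : ∀ (N' : Type u) [Field N'] [Algebra K N'] [FiniteDimensional K N'] [IsGalois K N']
      (b : etObj K N' ⟶ etObj K N) (a : F.obj.obj (op (etObj K N'))),
      ∃ m : ULift.{u + 1} M,
        F.obj.map b.op (σ.app (op (Over.mk f)) m) = a := by
    intro N' _ _ _ _ b a
    let W : Over (U i) := Over.mk (b ≫ f)
    have hS := h3.imageSieve_mem (U := W) a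
    rw [GrothendieckTopology.mem_over_iff] at hS
    have : Nonempty W.left.left := inferInstanceAs (Nonempty (PrimeSpectrum N'))
    obtain ⟨N'', _, _, _, _, c, hc⟩ := exists_galois_mem _ hS
    rw [Sieve.overEquiv_iff] at hc
    obtain ⟨m, hm⟩ := hc
    let c' : etObj K N'' ⟶ etObj K N' := c
    let s₀ : F.obj.obj (op (etObj K N)) := σ.app (op (Over.mk f)) m
    have hinj : Function.Injective (F.obj.map c'.op) := map_injective F c'
    refine ⟨m, hinj ?_⟩
    let d : Over.mk (c ≫ W.hom) ⟶ Over.mk f := Over.homMk (c ≫ b) (by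
      change (c ≫ b) ≫ f = c ≫ b ≫ f
      rw [Category.assoc])
    have h4 : F.obj.map (c' ≫ b).op s₀ = F.obj.map c'.op a :=
      (NatTrans.naturality_apply σ d.op m).symm.trans hm
    exact (map_comp_apply F c' b s₀).symm.trans h4
  refine ⟨N, i1, i2, i3, i4, fun N' _ _ _ _ b a => ?_, ?_⟩
  · obtain ⟨m, hm⟩ := key N' b a
    exact ⟨_, hm⟩
  · refine Finite.of_surjective (fun m : ULift.{u + 1} M =>
      (show F.obj.obj (op (etObj K N)) from σ.app (op (Over.mk f)) m)) fun a => ?_
    obtain ⟨m, hm⟩ := key N (𝟙 _) a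
    refine ⟨m, ?_⟩
    rw [op_id, F.obj.map_id] at hm
    exact hm

/-- Constructible sheaves on `Spec K`. -/
theorem exists_split_of_isConstructible (F : EtCoh.Ab (Spec (CommRingCat.of K)))
    (hF : EtPBC.IsConstructible F) :
    ∃ (N : Type u) (_ : Field N) (_ : Algebra K N) (_ : FiniteDimensional K N) (_ : IsGalois K N),
      Split N F ∧ Finite (F.obj.obj (op (etObj K N))) :=
  exists_split_of_isFLC F (isFLC_of_isConstructible F hF)

theorem fin'_of_isConstructible (F : EtCoh.Ab (Spec (CommRingCat.of K)))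
    (hF : EtPBC.IsConstructible F) : Fin' F := by
  obtain ⟨N, i1, i2, i3, i4, h1, h2⟩ := exists_split_of_isConstructible F hF
  exact ⟨N, i1, i2, i3, i4, h1, inferInstance⟩

end Groth.Agent.Sga2lef.H97.FieldCons
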